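import Mathlib

/-!
# Sets of at most six four-tuples, closed under even permutations and inversion (helper130)
-/

set_option autoImplicit false
set_option linter.unusedSectionVars false

namespace Cfsg.Agent.H130.U4

open Equiv

theorem perm_aux : ∀ σ : Perm (Fin 4), Perm.sign σ = 1 → σ ≠ 1 → ∀ i j k : Fin 4, i ≠ j → i ≠ k → j ≠ k →
    ∃ m : Fin 4, (σ ^ (m : ℕ)) i = j ∨ (σ ^ (m : ℕ)) i = k ∨ (σ ^ (m : ℕ)) j = k := by
  decide +kernel

theorem perm_pt : ∀ i j : Fin 4, ∃ σ : Perm (Fin 4), Perm.sign σ = 1 ∧ σ i = j := by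
  decide +kernel

set_option synthInstance.maxHeartbeats 400000 in
set_option synthInstance.maxSize 2048 in
theorem perm_set : ∀ s t : Finset (Fin 4), s.card = 2 → t.card = 2 →
    ∃ σ : Perm (Fin 4), Perm.sign σ = 1 ∧ ∀ k, (k ∈ s ↔ σ k ∈ t) := by
  decide +kernel

theorem exists_other : ∀ i j : Fin 4, ∃ k, k ≠ i ∧ k ≠ j := by decide

variable {L : Type*} [Field L]

/-- the hypotheses -/
structure Cm (n : ℕ) (C : Set (Fin 4 → L)) : Prop where
  fin : C.Finite
  card : C.ncard ≤ 6
  perm : ∀ c ∈ C, ∀ σ : Perm (Fin 4), Perm.sign σ = 1 → (fun i => c (σ i)) ∈ C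
  inv : ∀ c ∈ C, (fun i => (c i)⁻¹) ∈ C
  prod : ∀ c ∈ C, ∏ i, c i = 1
  odd : ∀ c ∈ C, ∀ i, c i ^ n = 1
  n_odd : Odd n

namespace Cm

variable {n : ℕ} {C : Set (Fin 4 → L)} (h : Cm n C)
include h

theorem sq {x : L} (hx : x ^ n = 1) (hxx : x * x = 1) : x = 1 := by
  obtain ⟨k, hk⟩ := h.n_odd
  rw [hk, pow_succ, pow_mul, pow_two, hxx, one_pow, one_mul] at hx
  exact hx

theorem card_le {α : Type*} [Fintype α] (f : α → (Fin 4 → L)) (hf : ∀ x, f x ∈ C) (hinj : Function.Injective f) :
    Fintype.card α ≤ 6 := by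
  have h1 : (Set.range f).ncard ≤ C.ncard := Set.ncard_le_ncard (by rintro _ ⟨x, rfl⟩; exact hf x) h.fin
  rw [← Set.image_univ, Set.ncard_image_of_injective _ hinj, Set.ncard_univ, Nat.card_eq_fintype_card] at h1
  exact h1.trans h.card

/-- at most two values -/
theorem two {c : Fin 4 → L} (hc : c ∈ C) {i j k : Fin 4} (hij : i ≠ j) (hik : i ≠ k) (hjk : j ≠ k) :
    c i = c j ∨ c i = c k ∨ c j = c k := by
  by_contra hcon
  push Not at hcon
  have hinj : Function.Injective (fun σ : {σ : Perm (Fin 4) // Perm.sign σ = 1} => fun i => c (σ.1 i)) := by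
    intro σ τ hst
    by_contra hne
    have h1 : ∀ i, c (σ.1 i) = c (τ.1 i) := fun i => congrFun hst i
    have h2 : ∀ i, c ((σ.1 * τ.1⁻¹) i) = c i := by
      intro i
      rw [Perm.mul_apply, h1]
      exact congrArg c (τ.1.apply_symm_apply i)
    have h3 : ∀ m : ℕ, ∀ i, c (((σ.1 * τ.1⁻¹) ^ m) i) = c i := by
      intro m
      induction m with
      | zero => intro i; rfl
      | succ m ih => intro i; rw [pow_succ', Perm.mul_apply, h2, ih]
    obtain ⟨m, hm⟩ := perm_aux (σ.1 * τ.1⁻¹) (by rw [Perm.sign_mul, Perm.sign_inv, σ.2, τ.2]; rfl)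
      (by
        intro h4
        apply hne
        apply Subtype.ext
        exact mul_inv_eq_one.1 h4) i j k hij hik hjk
    rcases hm with hm | hm | hm
    · exact hcon.1 (by rw [← hm, h3])
    · exact hcon.2.1 (by rw [← hm, h3])
    · exact hcon.2.2 (by rw [← hm, h3])
  have h1 := h.card_le (fun σ : {σ : Perm (Fin 4) // Perm.sign σ = 1} => fun i => c (σ.1 i))
    (fun σ => h.perm c hc σ.1 σ.2) hinj
  have h2 : Fintype.card {σ : Perm (Fin 4) // Perm.sign σ = 1} = 12 := by decide +kernel
  omega

/-- no pattern `(x, y, y, y)` -/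
theorem no31 {c : Fin 4 → L} (hc : c ∈ C) {i0 : Fin 4} {x y : L} (hxy : x ≠ y) (hx : c i0 = x)
    (hy : ∀ j, j ≠ i0 → c j = y) : False := by
  have hcx : x ^ n = 1 := by rw [← hx]; exact h.odd c hc i0
  have hcy : y ^ n = 1 := by
    obtain ⟨j, hj, -⟩ := exists_other i0 i0
    rw [← hy j hj]; exact h.odd c hc j
  have hx0 : x ≠ 0 := by
    rintro rfl
    obtain ⟨k, hk⟩ := h.n_odd
    rw [hk, pow_succ, mul_zero] at hcx
    exact zero_ne_one hcx
  have hy0 : y ≠ 0 := by
    rintro rfl
    obtain ⟨k, hk⟩ := h.n_odd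
    rw [hk, pow_succ, mul_zero] at hcy
    exact zero_ne_one hcy
  have hyy : y⁻¹ ≠ y ∨ x = 1 ∨ y ≠ 1 := by
    by_cases hy1 : y = 1
    · right; left
      have hp := h.prod c hc
      have h1 : ∏ i, c i = x := by
        rw [← hx]
        refine Finset.prod_eq_single i0 (fun j _ hj => ?_) (fun h1 => absurd (Finset.mem_univ _) h1)
        rw [hy j hj, hy1]
      rw [← h1, hp]
    · right; right; exact hy1
  have hone : ∀ {w : L}, w ^ n = 1 → w ≠ 0 → w⁻¹ = w → w = 1 := by
    intro w hw hw0 hww
    apply h.sq hw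
    nth_rw 1 [← hww]
    exact inv_mul_cancel₀ hw0
  let f : Fin 4 × Bool → (Fin 4 → L) := fun p => if p.2 then Function.update (fun _ => y⁻¹) p.1 x⁻¹ else
    Function.update (fun _ => y) p.1 x
  have hmem : ∀ i, Function.update (fun _ => y) i x ∈ C := by
    intro i
    obtain ⟨σ, hσ, hi⟩ := perm_pt i i0
    have h1 := h.perm c hc σ hσ
    have h2 : (fun i => c (σ i)) = Function.update (fun _ => y) i x := by
      funext j
      by_cases hj : j = i
      · subst hj
        rw [Function.update_self, hi, hx]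
      · rw [Function.update_of_ne hj, hy]
        intro h3
        exact hj (σ.injective (h3.trans hi.symm))
    rwa [h2] at h1
  have hf : ∀ p, f p ∈ C := by
    rintro ⟨i, b⟩
    cases b
    · exact hmem i
    · have h1 := h.inv _ (hmem i)
      have h2 : (fun j => (Function.update (fun _ => y) i x j)⁻¹) = Function.update (fun _ => y⁻¹) i x⁻¹ := by
        funext j
        by_cases hj : j = i
        · subst hj
          rw [Function.update_self, Function.update_self]
        · rw [Function.update_of_ne hj, Function.update_of_ne hj]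
      rw [h2] at h1
      exact h1
  have key : ∀ i j : Fin 4, Function.update (fun _ : Fin 4 => y⁻¹) i x⁻¹ ≠ Function.update (fun _ : Fin 4 => y) j x := by
    intro i j hij
    obtain ⟨k, hki, hkj⟩ := exists_other i j
    have h1 := congrFun hij k
    rw [Function.update_of_ne hki, Function.update_of_ne hkj] at h1
    have hy1 := hone hcy hy0 h1
    have h2 := congrFun hij i
    rw [Function.update_self] at h2
    apply hxy
    by_cases hij' : i = j
    · subst hij'
      rw [Function.update_self] at h2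
      rw [hone hcx hx0 h2, hy1]
    · rw [Function.update_of_ne hij', hy1] at h2
      rw [hy1, ← inv_inv x, h2, inv_one]
  have hinj : Function.Injective f := by
    rintro ⟨i, b⟩ ⟨j, b'⟩ hij
    have inj1 : ∀ {u v : L}, u ≠ v → ∀ i j : Fin 4, Function.update (fun _ : Fin 4 => v) i u =
        Function.update (fun _ : Fin 4 => v) j u →
        i = j := by
      intro u v huv i j hij
      by_contra hne
      have h1 := congrFun hij i
      rw [Function.update_self, Function.update_of_ne hne] at h1
      exact huv h1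
    cases b <;> cases b'
    · rw [inj1 hxy i j hij]
    · exact absurd hij.symm (key j i)
    · exact absurd hij (key i j)
    · rw [inj1 (fun h1 => hxy (inv_injective h1)) i j hij]
  have h1 := h.card_le f hf hinj
  simp at h1

/-- the pattern `(x, x, y, y)` excludes the trivial tuple -/
theorem no22 {c : Fin 4 → L} (hc : c ∈ C) {s : Finset (Fin 4)} (hs : s.card = 2) {x y : L} (hxy : x ≠ y)
    (hcs : ∀ i, c i = if i ∈ s then x else y) (h1 : (fun _ => (1 : L)) ∈ C) : False := by
  let f : Option {t : Finset (Fin 4) // t.card = 2} → (Fin 4 → L) := fun o => o.elim (fun _ => 1)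
    (fun t => fun i => if i ∈ t.1 then x else y)
  have hf : ∀ o, f o ∈ C := by
    rintro (_ | ⟨t, ht⟩)
    · exact h1
    · obtain ⟨σ, hσ, hk⟩ := perm_set t s ht hs
      have h2 := h.perm c hc σ hσ
      have h3 : (fun i => c (σ i)) = fun i => if i ∈ t then x else y := by
        funext i
        rw [hcs]
        simp only [hk]
      rw [h3] at h2
      exact h2
  have hinj : Function.Injective f := by
    rintro (_ | ⟨t, ht⟩) (_ | ⟨t', ht'⟩) hij
    · rfl
    · exfalso
      have h2 : ∀ i, (1 : L) = if i ∈ t' then x else y := fun i => congrFun hij i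
      obtain ⟨i, hi⟩ : t'.Nonempty := by rw [← Finset.card_pos]; omega
      obtain ⟨k, hk⟩ : ∃ k, k ∉ t' := by
        by_contra hcon
        push Not at hcon
        have : t' = Finset.univ := by ext k; simp [hcon k]
        rw [this] at ht'
        simp at ht'
      have e1 := h2 i
      have e2 := h2 k
      rw [if_pos hi] at e1
      rw [if_neg hk] at e2
      exact hxy (e1.symm.trans e2)
    · exfalso
      have h2 : ∀ i, (1 : L) = if i ∈ t then x else y := fun i => (congrFun hij i).symm
      obtain ⟨i, hi⟩ : t.Nonempty := by rw [← Finset.card_pos]; omega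
      obtain ⟨k, hk⟩ : ∃ k, k ∉ t := by
        by_contra hcon
        push Not at hcon
        have : t = Finset.univ := by ext k; simp [hcon k]
        rw [this] at ht
        simp at ht
      have e1 := h2 i
      have e2 := h2 k
      rw [if_pos hi] at e1
      rw [if_neg hk] at e2
      exact hxy (e1.symm.trans e2)
    · congr 1
      apply Subtype.ext
      ext i
      have h2 : (if i ∈ t then x else y) = if i ∈ t' then x else y := congrFun hij i
      change i ∈ t ↔ i ∈ t'
      by_cases hi : i ∈ t <;> by_cases hi' : i ∈ t'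
      · simp [hi, hi']
      · rw [if_pos hi, if_neg hi'] at h2
        exact absurd h2 hxy
      · rw [if_neg hi, if_pos hi'] at h2
        exact absurd h2.symm hxy
      · simp [hi, hi']
  have h2 := h.card_le f hf hinj
  have h3 : Fintype.card (Option {t : Finset (Fin 4) // t.card = 2}) = 7 := by decide +kernel
  omega

/-- non-trivial tuples have the pattern `(x, x, y, y)` with `x y = 1` -/
theorem pattern {c : Fin 4 → L} (hc : c ∈ C) (hne : ∃ i, c i ≠ 1) : ∃ (s : Finset (Fin 4)) (x y : L), s.card = 2 ∧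
    x ≠ y ∧ x * y = 1 ∧ ∀ i, c i = if i ∈ s then x else y := by
  classical
  set x := c 3 with hx
  let s : Finset (Fin 4) := Finset.univ.filter fun i => c i = x
  have hs : ∀ i, i ∈ s ↔ c i = x := fun i => by simp [s]
  have hs3 : (3 : Fin 4) ∈ s := (hs 3).2 rfl
  have hxn : x ^ n = 1 := h.odd c hc 3
  obtain ⟨j0, hj0⟩ : ∃ j, j ∉ s := by
    by_contra hcon
    push Not at hcon
    have h1 : ∀ i, c i = x := fun i => (hs i).1 (hcon i)
    have h2 := h.prod c hc
    rw [Finset.prod_congr rfl (fun i _ => h1 i), Finset.prod_const, Finset.card_univ, Fintype.card_fin] at h2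
    have h3 : (x * x) * (x * x) = 1 := by rw [← h2]; ring
    have h4 : (x * x) ^ n = 1 := by rw [mul_pow, hxn, one_mul]
    have h5 := h.sq hxn (h.sq h4 h3)
    obtain ⟨i, hi⟩ := hne
    exact hi ((h1 i).trans h5)
  set y := c j0 with hy
  have hxy : x ≠ y := fun h1 => hj0 ((hs j0).2 h1.symm)
  have hyn : y ^ n = 1 := h.odd c hc j0
  have hall : ∀ i, c i = if i ∈ s then x else y := by
    intro i
    split_ifs with hi
    · exact (hs i).1 hi
    · by_cases hij : i = j0
      · rw [hij]
      · have h3 : (3 : Fin 4) ≠ i := fun h1 => hi (h1 ▸ hs3)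
        have h4 : (3 : Fin 4) ≠ j0 := fun h1 => hj0 (h1 ▸ hs3)
        rcases h.two hc h3 h4 hij with h5 | h5 | h5
        · exact absurd ((hs i).2 h5.symm) hi
        · exact absurd h5 hxy
        · exact h5
  have hcard : s.card = 2 := by
    have h1 : 0 < s.card := Finset.card_pos.2 ⟨3, hs3⟩
    have h2 : s.card < 4 := by
      have : s.card < (Finset.univ : Finset (Fin 4)).card :=
        Finset.card_lt_card ⟨Finset.subset_univ _, fun h3 => hj0 (h3 (Finset.mem_univ _))⟩
      simpa using this
    have h3 : s.card ≠ 1 := by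
      intro h3
      obtain ⟨i0, hi0⟩ := Finset.card_eq_one.1 h3
      refine h.no31 hc (i0 := i0) (x := x) (y := y) hxy ?_ ?_
      · rw [hall, if_pos (by rw [hi0]; exact Finset.mem_singleton_self _)]
      · intro j hj
        rw [hall, if_neg (by rw [hi0]; simpa using hj)]
    have h4 : s.card ≠ 3 := by
      intro h4
      have h5 : sᶜ.card = 1 := by rw [Finset.card_compl, h4]; rfl
      obtain ⟨i0, hi0⟩ := Finset.card_eq_one.1 h5
      have h6 : ∀ j, j ∉ s ↔ j = i0 := by
        intro j
        rw [← Finset.mem_compl, hi0, Finset.mem_singleton]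
      refine h.no31 hc (i0 := i0) (x := y) (y := x) hxy.symm ?_ ?_
      · rw [hall, if_neg ((h6 i0).2 rfl)]
      · intro j hj
        rw [hall, if_pos (by by_contra h7; exact hj ((h6 j).1 h7))]
    omega
  refine ⟨s, x, y, hcard, hxy, ?_, hall⟩
  have h1 := h.prod c hc
  rw [Finset.prod_congr rfl (fun i _ => hall i), Finset.prod_ite, Finset.prod_const, Finset.prod_const] at h1
  have h2 : (Finset.univ.filter fun i => i ∈ s).card = 2 := by
    have : (Finset.univ.filter fun i => i ∈ s) = s := by ext i; simp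
    rw [this, hcard]
  have h3 : (Finset.univ.filter fun i => i ∉ s).card = 2 := by
    have : (Finset.univ.filter fun i => i ∉ s) = sᶜ := by ext i; simp
    rw [this, Finset.card_compl, hcard]; rfl
  rw [h2, h3] at h1
  refine h.sq (by rw [mul_pow, hxn, hyn, one_mul]) ?_
  rw [← h1]; ring

/-- **the result** -/
theorem ne_one (hne : ∃ c ∈ C, c 3 ≠ 1) : ∀ c ∈ C, c 3 ≠ 1 := by
  obtain ⟨c', hc', h3⟩ := hne
  obtain ⟨s, x, y, hs, hxy, -, hall⟩ := h.pattern hc' ⟨3, h3⟩
  have htriv : (fun _ => (1 : L)) ∉ C := fun h1 => h.no22 hc' hs hxy hall h1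
  intro c hc hc3
  have hnt : ∃ i, c i ≠ 1 := by
    by_contra hcon
    push Not at hcon
    have : c = fun _ => 1 := funext hcon
    exact htriv (this ▸ hc)
  obtain ⟨t, u, v, ht, huv, huv1, hall'⟩ := h.pattern hc hnt
  have h4 := hall' 3
  rw [hc3] at h4
  apply huv
  split_ifs at h4
  · rw [← h4, one_mul] at huv1
    rw [← h4, huv1]
  · rw [← h4, mul_one] at huv1
    rw [← h4, huv1]

end Cm

end Cfsg.Agent.H130.U4
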