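import Cfsg.Agent.H130.U4.Mono
import Cfsg.Agent.ClassicalGeometry.UnitGenTwo
import Cfsg.Agent.LieClassical.GUOrder
import Cfsg.Agent.ClassicalGeometry.GUBasic

/-!
# The elements `diag(a, .., a⁻³, .., a)` of `SU₄(q)` (helper130)
-/

set_option autoImplicit false
set_option linter.unusedSectionVars false

namespace Cfsg.Agent.H130.U4

open Matrix Cfsg Cfsg.Agent.LieClassical.SUBasic Cfsg.Agent.LieClassical.HermSiegel Cfsg.Agent.LieClassical.HermBasic

variable {K : Type*} [Field K] {q : ℕ}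

theorem a_ne {a : K} (ha : a ^ (q + 1) = 1) : a ≠ 0 := by
  rintro rfl
  rw [pow_succ, mul_zero] at ha
  exact zero_ne_one ha

/-- the diagonal entries -/
def dz (a : K) (i j : Fin 4) : K := if j = i then (a ^ 3)⁻¹ else a

/-- the elements -/
def zz {a : K} (ha : a ^ (q + 1) = 1) (i : Fin 4) : SU 4 K q :=
  suDiag q (dz a i) (by
    have h0 := a_ne ha
    fin_cases i <;> simp [Fin.prod_univ_four, dz] <;> field_simp) (fun j => by
    unfold dz
    split_ifs
    · rw [inv_pow, ← pow_mul, mul_comm, pow_mul, ha, one_pow, inv_one]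
    · exact ha)

variable {a : K} (ha : a ^ (q + 1) = 1)

theorem act_zz (i : Fin 4) (v : Fin 4 → K) : act (zz ha i) v = fun j => dz a i j * v j := act_suDiag _ _ _ _

theorem zz_comm (i j : Fin 4) : zz ha i * zz ha j = zz ha j * zz ha i := by
  apply su_ext
  intro v
  rw [act_mul, act_mul, act_zz, act_zz, act_zz, act_zz]
  funext k
  ring

theorem zz_pow (i : Fin 4) (m : ℕ) (v : Fin 4 → K) : act (zz ha i ^ m) v = fun j => dz a i j ^ m * v j := by
  induction m generalizing v with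
  | zero => rw [pow_zero, act_one]; funext j; simp
  | succ m ih =>
    rw [pow_succ, act_mul, ih, act_zz]
    funext j
    ring

theorem zz_order (i : Fin 4) : zz ha i ^ (q + 1) = 1 := by
  apply su_ext
  intro v
  rw [zz_pow, act_one]
  funext j
  have h1 : dz a i j ^ (q + 1) = 1 := by
    unfold dz
    split_ifs
    · rw [inv_pow, ← pow_mul, mul_comm, pow_mul, ha, one_pow, inv_one]
    · exact ha
  rw [h1, one_mul]

theorem zz_prod : zz ha 0 * zz ha 1 * zz ha 2 * zz ha 3 = 1 := by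
  have h0 := a_ne ha
  apply su_ext
  intro v
  rw [act_mul, act_mul, act_mul, act_one, act_zz, act_zz, act_zz, act_zz]
  funext j
  fin_cases j <;> simp [dz] <;> field_simp

theorem zz_perm (σ : Equiv.Perm (Fin 4)) (hσ : Equiv.Perm.sign σ = 1) (k : Fin 4) :
    zz ha k * suPerm q σ hσ = suPerm q σ hσ * zz ha (σ k) := by
  apply su_ext
  intro v
  rw [act_mul, act_mul, act_zz, act_suPerm, act_suPerm, act_zz]
  funext j
  change dz a k j * v (σ j) = dz a (σ k) (σ j) * v (σ j)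
  congr 1
  unfold dz
  by_cases h : j = k
  · rw [if_pos h, if_pos (by rw [h])]
  · rw [if_neg h, if_neg (fun h1 => h (σ.injective h1))]

theorem zz_not_center (hq : Odd (q + 1)) (ha1 : a ≠ 1) : zz ha 3 ∉ Subgroup.center (SU 4 K q) := by
  intro h
  have h0 := a_ne ha
  have h1 := zz_perm ha (Equiv.swap 0 3 * Equiv.swap 1 2) (by decide) 3
  rw [← Subgroup.mem_center_iff.1 h] at h1
  have h2 := mul_left_cancel h1
  have h3 := congrArg (fun g => act g (fun _ => (1 : K)) 0) h2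
  have h4 : (Equiv.swap (0 : Fin 4) 3 * Equiv.swap 1 2 : Equiv.Perm (Fin 4)) 3 = 0 := by decide
  simp only [act_zz, h4, dz, mul_one] at h3
  replace h3 : a = (a ^ 3)⁻¹ := by simpa using h3
  have h5 : a ^ 4 = 1 := by
    rw [pow_succ]
    nth_rw 2 [h3]
    exact mul_inv_cancel₀ (pow_ne_zero _ h0)
  apply ha1
  obtain ⟨k, hk⟩ := hq
  have h6 : (a ^ 4) ^ k * a ^ 2 = (a ^ (q + 1)) ^ 2 := by
    rw [← pow_mul, ← pow_add, ← pow_mul]
    congr 1
    omega
  rw [h5, one_pow, one_mul, ha, one_pow] at h6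
  have h7 : a ^ (q + 1) = a := by rw [hk, pow_succ, pow_mul, h6, one_pow, one_mul]
  rw [← h7, ha]

section Geo

variable [Fintype K] (hK : Fintype.card K = q ^ 2)
include hK

/-- the basis vector -/
def e3 (K : Type*) [Field K] : Fin 4 → K := Pi.single 3 1

theorem herm_e3 (v : Fin 4 → K) : hermForm 4 K q v (e3 K) = v 3 := by
  rw [e3, herm_single_right hK]
  simp

theorem act_zz3 (v : Fin 4 → K) :
    act (zz ha 3) v = a • v + (((a ^ 3)⁻¹ - a) * hermForm 4 K q v (e3 K)) • e3 K := by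
  rw [act_zz, herm_e3 hK]
  funext j
  by_cases hj : j = 3
  · subst hj
    simp [dz, e3]
    ring
  · simp [dz, e3, hj]

theorem herm_act (g : SU 4 K q) (u v : Fin 4 → K) : hermForm 4 K q (act g u) (act g v) = hermForm 4 K q u v :=
  g.2 u v

theorem act_conj (g : SU 4 K q) (v : Fin 4 → K) :
    act (g * zz ha 3 * g⁻¹) v = a • v + (((a ^ 3)⁻¹ - a) * hermForm 4 K q v (act g (e3 K))) • act g (e3 K) := by
  rw [act_mul, act_mul, act_zz3 ha hK, act_add, act_smul, act_smul, act_act_inv]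
  have h1 : hermForm 4 K q (act g⁻¹ v) (e3 K) = hermForm 4 K q v (act g (e3 K)) := by
    rw [← herm_act hK g, act_act_inv]
  rw [h1]

theorem commute_of_orth (g h : SU 4 K q) (ho : hermForm 4 K q (act h (e3 K)) (act g (e3 K)) = 0) :
    Commute (h * zz ha 3 * h⁻¹) (g * zz ha 3 * g⁻¹) := by
  have ho' : hermForm 4 K q (act g (e3 K)) (act h (e3 K)) = 0 := herm_eq_zero_swap hK ho
  apply su_ext
  intro v
  rw [act_mul (h * zz ha 3 * h⁻¹), act_mul (g * zz ha 3 * g⁻¹), act_conj ha hK, act_conj ha hK, act_conj ha hK,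
    act_conj ha hK]
  simp only [herm_add_left, herm_smul_left, ho, ho', mul_zero, add_zero, smul_add, smul_smul]
  module

/-- `SU₄` is transitive on the vectors of norm one -/
theorem exists_act {v : Fin 4 → K} (hv : hermForm 4 K q v v = 1) : ∃ g : SU 4 K q, act g (e3 K) = v := by
  have he : hermForm 4 K q (e3 K) (e3 K) = 1 := by rw [herm_e3 hK, e3]; simp
  obtain ⟨A, hA⟩ := Cfsg.Agent.LieClassical.GUOrder.exists_gu_map hK he hv
  set M : Matrix (Fin 4) (Fin 4) K := ((A : GL (Fin 4) K) : Matrix (Fin 4) (Fin 4) K) with hM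
  have hMh : ∀ u w : Fin 4 → K, hermForm 4 K q (M *ᵥ u) (M *ᵥ w) = hermForm 4 K q u w := (mem_GU_iff _).1 A.2
  set d := M.det with hd
  have hdn : d ^ (q + 1) = 1 := ClassicalGeometry.GUBasic.det_pow hK hMh
  have hd0 : d ≠ 0 := a_ne hdn
  have hdiag : ∀ i, (![d⁻¹, 1, 1, 1] : Fin 4 → K) i * (![d⁻¹, 1, 1, 1] : Fin 4 → K) i ^ q = 1 := by
    intro i
    fin_cases i
    · simp only [Fin.zero_eta, cons_val_zero]
      rw [← pow_succ', inv_pow, hdn, inv_one]
    · simp
    · simp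
    · simp
  have hDh : ∀ u w : Fin 4 → K, hermForm 4 K q (diagonal ![d⁻¹, 1, 1, 1] *ᵥ u) (diagonal ![d⁻¹, 1, 1, 1] *ᵥ w) =
      hermForm 4 K q u w := by
    intro u w
    rw [herm_def, herm_def]
    refine Finset.sum_congr rfl fun i _ => ?_
    rw [Matrix.mulVec_diagonal, Matrix.mulVec_diagonal, mul_pow]
    linear_combination (u i * w i ^ q) * hdiag i
  have hdet : (M * diagonal ![d⁻¹, 1, 1, 1]).det = 1 := by
    rw [det_mul, det_diagonal, Fin.prod_univ_four, ← hd]
    simp [mul_inv_cancel₀ hd0]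
  refine ⟨⟨⟨M * diagonal ![d⁻¹, 1, 1, 1], hdet⟩, ?_⟩, ?_⟩
  · intro u w
    change hermForm 4 K q ((M * diagonal ![d⁻¹, 1, 1, 1]) *ᵥ u) ((M * diagonal ![d⁻¹, 1, 1, 1]) *ᵥ w) = _
    rw [← mulVec_mulVec, ← mulVec_mulVec, hMh, hDh]
  · show (M * diagonal ![d⁻¹, 1, 1, 1]) *ᵥ e3 K = v
    rw [← mulVec_mulVec]
    have h1 : diagonal ![d⁻¹, 1, 1, 1] *ᵥ e3 K = e3 K := by
      funext i
      rw [Matrix.mulVec_diagonal, e3]
      fin_cases i <;> simp
    rw [h1]
    exact hA

/-- connectivity -/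
theorem conn (g : SU 4 K q) : ∃ h : SU 4 K q, Commute (h * zz ha 3 * h⁻¹) (zz ha 3) ∧
    Commute (h * zz ha 3 * h⁻¹) (g * zz ha 3 * g⁻¹) := by
  obtain ⟨s, hs3, hsv, hss⟩ := ClassicalGeometry.UnitGenTwo.exists_perp_norm_one hK (by norm_num : 3 ≤ 4) (act g (e3 K))
  obtain ⟨h, hh⟩ := exists_act hK hss
  refine ⟨h, ?_, ?_⟩
  · have h1 := commute_of_orth ha hK 1 h (by rw [hh, act_one, herm_e3 hK]; exact hs3 3 le_rfl)
    rwa [one_mul, inv_one, mul_one] at h1
  · exact commute_of_orth ha hK g h (by rw [hh]; exact hsv)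

end Geo

end Cfsg.Agent.H130.U4
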