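import Cfsg.Agent.H151.Six.W0Sym

/-!
# Invariant quadratic forms in characteristic two (helper130)

`φ : G → GL(ι, F)` preserves the alternating form `f`, `char F = 2`; `z ∈ G` has odd order, `φ z - 1` is surjective, and
any two conjugates of `z` commute with a third one. Then `G` preserves a quadratic form with polar form `f`.
-/

set_option autoImplicit false
set_option linter.unusedSectionVars false

namespace Cfsg.Agent.H130.U4

open Matrix Cfsg Cfsg.Geo Cfsg.Agent.H915.LD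

universe u

variable {F : Type u} [Field F] {ι : Type} [Fintype ι] [DecidableEq ι]

/-- quadratic forms with polar form `f` -/
structure QF (f : (ι → F) → (ι → F) → F) (Q : (ι → F) → F) : Prop where
  smul : ∀ (c : F) v, Q (c • v) = c ^ 2 * Q v
  add : ∀ u v, Q (u + v) = Q u + Q v + f u v

theorem exists_qf [CharP F 2] {f : (ι → F) → (ι → F) → F} (hf : IsSymplecticForm f) : ∃ Q, QF f Q := by
  classical
  obtain ⟨B, hB⟩ := H151.Six.exists_gram hf.bilinear
  let e : ι ≃ Fin (Fintype.card ι) := Fintype.equivFin ι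
  let U : Matrix ι ι F := fun i j => if e i < e j then B i j else 0
  have hbij : ∀ i j, f (Pi.single i 1) (Pi.single j 1) = B i j := by
    intro i j
    rw [hB, single_one_dotProduct, Matrix.mulVec_single_one]
    rfl
  have hUB : U + Uᵀ = B := by
    ext i j
    rw [Matrix.add_apply, Matrix.transpose_apply]
    by_cases hij : i = j
    · subst hij
      have h1 : B i i = 0 := by rw [← hbij]; exact hf.alternating _
      simp [U, h1]
    · have h1 : e i ≠ e j := fun h => hij (e.injective h)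
      have h2 : B j i = B i j := by
        rw [← hbij, ← hbij, hf.skew]
        exact CharTwo.neg_eq _
      rcases lt_or_gt_of_ne h1 with h3 | h3
      · simp only [U]
        rw [if_pos h3, if_neg (not_lt.2 h3.le), add_zero]
      · simp only [U]
        rw [if_neg (not_lt.2 h3.le), if_pos h3, zero_add, h2]
  refine ⟨fun v => v ⬝ᵥ (U *ᵥ v), ?_, ?_⟩
  · intro c v
    simp only [Matrix.mulVec_smul, smul_dotProduct, dotProduct_smul, smul_eq_mul]
    ring
  · intro u v
    have h1 : v ⬝ᵥ (U *ᵥ u) = u ⬝ᵥ (Uᵀ *ᵥ v) := by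
      rw [Matrix.mulVec_transpose, Matrix.dotProduct_mulVec, dotProduct_comm]
    have h2 : f u v = u ⬝ᵥ (U *ᵥ v) + v ⬝ᵥ (U *ᵥ u) := by
      rw [hB, ← hUB, Matrix.add_mulVec, dotProduct_add, h1]
    rw [h2, Matrix.mulVec_add, add_dotProduct, dotProduct_add, dotProduct_add]
    ring

variable {G : Type*} [Group G] {φ : G →* GL ι F} {f : (ι → F) → (ι → F) → F}

/-- the action -/
def ac (φ : G →* GL ι F) (g : G) (v : ι → F) : ι → F := (φ g : Matrix ι ι F) *ᵥ v

theorem ac_mul (g h : G) (v : ι → F) : ac φ (g * h) v = ac φ g (ac φ h v) := by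
  rw [ac, map_mul, Units.val_mul, ac, ac, Matrix.mulVec_mulVec]

theorem ac_one (v : ι → F) : ac φ 1 v = v := by
  rw [ac, map_one, Units.val_one, Matrix.one_mulVec]

theorem ac_add (g : G) (u v : ι → F) : ac φ g (u + v) = ac φ g u + ac φ g v := Matrix.mulVec_add _ _ _

theorem ac_smul (g : G) (c : F) (v : ι → F) : ac φ g (c • v) = c • ac φ g v := Matrix.mulVec_smul _ _ _

theorem QF.comp {Q : (ι → F) → F} (hQ : QF f Q) (hinv : ∀ g u v, f (ac φ g u) (ac φ g v) = f u v) (g : G) :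
    QF f (fun v => Q (ac φ g v)) :=
  ⟨fun c v => by simp only [ac_smul, hQ.smul], fun u v => by simp only [ac_add, hQ.add, hinv]⟩

theorem exists_fixed [CharP F 2] (hf : IsSymplecticForm f) (hinv : ∀ g u v, f (ac φ g u) (ac φ g v) = f u v) {z : G}
    {n : ℕ} (hn : Odd n) (hz : z ^ n = 1) : ∃ Q, QF f Q ∧ ∀ v, Q (ac φ z v) = Q v := by
  obtain ⟨Q, hQ⟩ := exists_qf hf
  refine ⟨fun v => ∑ k ∈ Finset.range n, Q (ac φ (z ^ k) v), ⟨?_, ?_⟩, ?_⟩
  · intro c v
    rw [Finset.mul_sum]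
    exact Finset.sum_congr rfl fun k _ => (hQ.comp hinv (z ^ k)).smul c v
  · intro u v
    have h1 : ∀ k, Q (ac φ (z ^ k) (u + v)) = Q (ac φ (z ^ k) u) + Q (ac φ (z ^ k) v) + f u v := fun k =>
      (hQ.comp hinv (z ^ k)).add u v
    simp only [h1, Finset.sum_add_distrib, Finset.sum_const, Finset.card_range]
    congr 1
    obtain ⟨k, hk⟩ := hn
    rw [hk, add_smul, one_smul, mul_comm, mul_smul, two_smul, CharTwo.add_self_eq_zero, smul_zero, zero_add]
  · intro v
    have h1 : ∀ k, Q (ac φ (z ^ k) (ac φ z v)) = Q (ac φ (z ^ (k + 1)) v) := fun k => by rw [← ac_mul, ← pow_succ]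
    simp only [h1]
    have h2 := Finset.sum_range_succ' (fun k => Q (ac φ (z ^ k) v)) n
    have h3 := Finset.sum_range_succ (fun k => Q (ac φ (z ^ k) v)) n
    rw [hz] at h3
    rw [pow_zero] at h2
    exact add_right_cancel (h2.symm.trans h3)

theorem qf_unique {Q Q' : (ι → F) → F} (hQ : QF f Q) (hQ' : QF f Q') {z : G}
    (hs : ∀ w, ∃ v, ac φ z v - v = w) (h : ∀ v, Q (ac φ z v) = Q v) (h' : ∀ v, Q' (ac φ z v) = Q' v) : Q = Q' := by
  funext w
  obtain ⟨v, hv⟩ := hs w
  have hadd : ∀ x y, Q (x + y) - Q' (x + y) = (Q x - Q' x) + (Q y - Q' y) := by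
    intro x y
    rw [hQ.add, hQ'.add]
    ring
  have h1 := hadd w v
  have h2 : w + v = ac φ z v := by rw [← hv]; abel
  rw [h2, h, h'] at h1
  have h3 : Q w - Q' w = 0 := by linear_combination -h1
  exact sub_eq_zero.1 h3

/-- **an invariant quadratic form** -/
theorem exists_invariant [CharP F 2] (hf : IsSymplecticForm f) (hinv : ∀ g u v, f (ac φ g u) (ac φ g v) = f u v)
    {z : G} {n : ℕ} (hn : Odd n) (hz : z ^ n = 1) (hs : ∀ w, ∃ v, ac φ z v - v = w)
    (hconn : ∀ g : G, ∃ h : G, Commute (h * z * h⁻¹) z ∧ Commute (h * z * h⁻¹) (g * z * g⁻¹)) :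
    ∃ Q, QF f Q ∧ ∀ g v, Q (ac φ g v) = Q v := by
  obtain ⟨Q, hQ, hQz⟩ := exists_fixed hf hinv hn hz
  refine ⟨Q, hQ, ?_⟩
  have star : ∀ h : G, Commute (h * z * h⁻¹) z → ∀ v, Q (ac φ h v) = Q v := by
    intro h hc
    -- `Q` is fixed by the conjugate
    have h1 : (fun v => Q (ac φ (h * z * h⁻¹) v)) = Q := by
      refine qf_unique (hQ.comp hinv _) hQ hs ?_ hQz
      intro v
      rw [← ac_mul, hc.eq, ac_mul, hQz]
    -- transport
    have h2 : (fun v => Q (ac φ h v)) = Q := by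
      refine qf_unique (hQ.comp hinv _) hQ hs ?_ hQz
      intro v
      have h3 : Q (ac φ (h * z * h⁻¹) (ac φ h v)) = Q (ac φ h v) := congrFun h1 (ac φ h v)
      rw [← ac_mul, inv_mul_cancel_right, ac_mul] at h3
      exact h3
    exact fun v => congrFun h2 v
  intro g v
  obtain ⟨h, hc, hcg⟩ := hconn g
  have h1 := star h hc
  have h2 := star (g⁻¹ * h) (by
    have h3 : g⁻¹ * h * z * (g⁻¹ * h)⁻¹ = g⁻¹ * (h * z * h⁻¹) * g := by group
    rw [h3]
    change g⁻¹ * (h * z * h⁻¹) * g * z = z * (g⁻¹ * (h * z * h⁻¹) * g)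
    have h4 : (h * z * h⁻¹) * (g * z * g⁻¹) = (g * z * g⁻¹) * (h * z * h⁻¹) := hcg
    calc g⁻¹ * (h * z * h⁻¹) * g * z = g⁻¹ * ((h * z * h⁻¹) * (g * z * g⁻¹)) * g := by group
      _ = g⁻¹ * ((g * z * g⁻¹) * (h * z * h⁻¹)) * g := by rw [h4]
      _ = _ := by group)
  -- `Q (g v) = Q (h⁻¹ g v)`-type identities
  have h3 : ∀ w, Q (ac φ g⁻¹ w) = Q w := by
    intro w
    have h5 := h2 (ac φ h⁻¹ w)
    rw [← ac_mul, mul_inv_cancel_right] at h5
    have h6 := h1 (ac φ h⁻¹ w)
    rw [← ac_mul, mul_inv_cancel, ac_one] at h6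
    rw [h5, h6]
  have h4 := h3 (ac φ g v)
  rw [← ac_mul, inv_mul_cancel, ac_one] at h4
  exact h4.symm

end Cfsg.Agent.H130.U4
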