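import Cfsg.Agent.H130.U4.OddCase
import Cfsg.Agent.H130.U4.EvenEl
import Cfsg.Agent.H130.U4.Comb
import Cfsg.Agent.H130.U4.Quad
import Cfsg.Agent.H905.MdL

/-!
# `PSU₄(q)` in its own characteristic, self-dual of degree six (helper130)

**`u4_six`** : such a group fixes a non-degenerate quadratic form.
-/

set_option autoImplicit false
set_option linter.unusedSectionVars false

namespace Cfsg.Agent.H130.U4

open Matrix Cfsg Cfsg.Geo Cfsg.Agent.H915.LD Module Cfsg.Agent.LieClassical.SUBasic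

universe u

variable {F : Type u} [Field F] {ι : Type} [Fintype ι] [DecidableEq ι] {P : Subgroup (GL ι F)}
  {K : Type*} [Field K] {q : ℕ}

section Weights

variable {a : K} (ha : a ^ (q + 1) = 1) {φ : SU 4 K q →* GL ι F}

/-- the operators -/
noncomputable def Az (φ : SU 4 K q →* GL ι F) (i : Fin 4) : Module.End (AlgebraicClosure F) (ι → AlgebraicClosure F) :=
  rp φ (zz ha i)

theorem Az_comm (i j : Fin 4) : Az ha φ i * Az ha φ j = Az ha φ j * Az ha φ i := by
  rw [Az, Az, ← map_mul, ← map_mul, zz_comm]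

theorem Az_pow (i : Fin 4) : Az ha φ i ^ (q + 1) = 1 := by
  rw [Az, ← map_pow, zz_order, map_one]

/-- the tuples of eigenvalues -/
theorem cm (hq : Odd (q + 1)) (hqF : ((q + 1 : ℕ) : F) ≠ 0) (hφ : φ.range = P) (hA : FixA P)
    (hι : Fintype.card ι = 6) : Cm (q + 1) {c | jt (Az ha φ) c ≠ ⊥} := by
  have hqL : ((q + 1 : ℕ) : AlgebraicClosure F) ≠ 0 := by
    intro h
    apply hqF
    apply (algebraMap F (AlgebraicClosure F)).injective
    rw [map_zero, map_natCast, h]
  obtain ⟨hind, htop⟩ := jt_facts (Az_comm ha (φ := φ)) hqL (Az_pow ha)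
  have hdim : finrank (AlgebraicClosure F) (ι → AlgebraicClosure F) = 6 := by
    rw [Module.finrank_fintype_fun_eq_card, hι]
  have hft : Fintype {c // jt (Az ha φ) c ≠ ⊥} := iSupIndep.fintypeNeBotOfFiniteDimensional hind
  have hev : ∀ c, jt (Az ha φ) c ≠ ⊥ → ∃ v, v ≠ 0 ∧ ∀ i, Az ha φ i v = c i • v := by
    intro c hc
    obtain ⟨v, hv, hv0⟩ := (Submodule.ne_bot_iff _).1 hc
    exact ⟨v, hv0, mem_jt.1 hv⟩
  have hmem : ∀ c v, v ≠ 0 → (∀ i, Az ha φ i v = c i • v) → jt (Az ha φ) c ≠ ⊥ := fun c v hv0 hv =>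
    (Submodule.ne_bot_iff _).2 ⟨v, mem_jt.2 hv, hv0⟩
  refine ⟨?_, ?_, ?_, ?_, ?_, ?_, hq⟩
  · have h1 : Finite {c // jt (Az ha φ) c ≠ ⊥} := inferInstance
    exact h1
  · have h1 := hind.subtype_ne_bot_le_finrank
    rw [hdim, ← Nat.card_eq_fintype_card] at h1
    exact h1
  · intro c hc σ hσ
    obtain ⟨v, hv0, hv⟩ := hev c hc
    refine hmem _ (rp φ (suPerm q σ hσ) v) ?_ ?_
    · intro h0
      apply hv0
      have h1 : rp φ (suPerm q σ hσ)⁻¹ (rp φ (suPerm q σ hσ) v) = v := by
        rw [← Module.End.mul_apply, ← map_mul, inv_mul_cancel, map_one, Module.End.one_apply]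
      rw [← h1, h0, map_zero]
    · intro i
      rw [Az, ← Module.End.mul_apply, ← map_mul, zz_perm, map_mul, Module.End.mul_apply]
      have h1 := hv (σ i)
      rw [Az] at h1
      rw [h1, map_smul]
  · intro c hc
    obtain ⟨v, hv0, hv⟩ := hev c hc
    obtain ⟨B, hnd, hinv, -⟩ := exists_form hφ hA
    obtain ⟨c', v', hv', hB⟩ : ∃ c' v', v' ∈ jt (Az ha φ) c' ∧ B v v' ≠ 0 := by
      by_contra hcon
      push Not at hcon
      apply hv0
      apply hnd
      have h1 : (⊤ : Submodule (AlgebraicClosure F) (ι → AlgebraicClosure F)) ≤ LinearMap.ker (B v) := by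
        rw [← htop]
        exact iSup_le fun c' v' hv' => LinearMap.mem_ker.2 (hcon c' v' hv')
      intro w
      exact LinearMap.mem_ker.1 (h1 (Submodule.mem_top (x := w)))
    have hv'' := mem_jt.1 hv'
    have h1 : ∀ i, c' i = (c i)⁻¹ := by
      intro i
      have h2 := hinv (zz ha i) v v'
      have h3 : rp φ (zz ha i) v = c i • v := hv i
      have h4 : rp φ (zz ha i) v' = c' i • v' := hv'' i
      rw [h3, h4] at h2
      simp only [map_smul, LinearMap.smul_apply, smul_eq_mul] at h2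
      have h5 : c' i * c i = 1 := by
        have h6 : (c' i * c i - 1) * B v v' = 0 := by linear_combination h2
        rcases mul_eq_zero.1 h6 with h7 | h7
        · exact sub_eq_zero.1 h7
        · exact absurd h7 hB
      exact eq_inv_of_mul_eq_one_left h5
    have h2 : c' = fun i => (c i)⁻¹ := funext h1
    subst h2
    refine hmem _ v' ?_ hv''
    rintro rfl
    exact hB (map_zero _)
  · intro c hc
    obtain ⟨v, hv0, hv⟩ := hev c hc
    have h1 : Az ha φ 0 * Az ha φ 1 * Az ha φ 2 * Az ha φ 3 = 1 := by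
      unfold Az
      rw [← map_mul, ← map_mul, ← map_mul, zz_prod, map_one]
    have h2 := LinearMap.congr_fun h1 v
    rw [Module.End.mul_apply, hv, map_smul, Module.End.mul_apply, hv, map_smul, Module.End.mul_apply, hv, map_smul, hv,
      Module.End.one_apply, smul_smul, smul_smul, smul_smul] at h2
    rw [Fin.prod_univ_four]
    have h3 : (c 0 * c 1 * c 2 * c 3 - 1) • v = 0 := by
      have h5 : c 0 * c 1 * c 2 * c 3 = c 3 * c 2 * c 1 * c 0 := by ring
      rw [sub_smul, one_smul, h5, h2, sub_self]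
    rcases smul_eq_zero.1 h3 with h4 | h4
    · exact sub_eq_zero.1 h4
    · exact absurd h4 hv0
  · intro c hc i
    obtain ⟨v, hv0, hv⟩ := hev c hc
    have h1 : ∀ m : ℕ, (Az ha φ i ^ m) v = (c i ^ m) • v := by
      intro m
      induction m with
      | zero => simp
      | succ m ih => rw [pow_succ', Module.End.mul_apply, ih, map_smul, hv, smul_smul, pow_succ]
    have h2 := h1 (q + 1)
    rw [Az_pow, Module.End.one_apply] at h2
    have h3 : (c i ^ (q + 1) - 1) • v = 0 := by rw [sub_smul, one_smul, ← h2, sub_self]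
    rcases smul_eq_zero.1 h3 with h4 | h4
    · exact sub_eq_zero.1 h4
    · exact absurd h4 hv0

/-- `φ z - 1` is surjective -/
theorem surj (hq : Odd (q + 1)) (hqF : ((q + 1 : ℕ) : F) ≠ 0) (ha1 : a ≠ 1) (hφ : φ.range = P)
    (hker : φ.ker ≤ Subgroup.center (SU 4 K q)) (hA : FixA P) (hι : Fintype.card ι = 6) (w : ι → F) :
    ∃ v, ac φ (zz ha 3) v - v = w := by
  have hqL : ((q + 1 : ℕ) : AlgebraicClosure F) ≠ 0 := by
    intro h
    apply hqF
    apply (algebraMap F (AlgebraicClosure F)).injective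
    rw [map_zero, map_natCast, h]
  obtain ⟨hind, htop⟩ := jt_facts (Az_comm ha (φ := φ)) hqL (Az_pow ha)
  have hcm := cm ha hq hqF hφ hA hι
  have hne : ∃ c ∈ {c | jt (Az ha φ) c ≠ ⊥}, c 3 ≠ 1 := by
    by_contra hcon
    push Not at hcon
    have h1 : (⊤ : Submodule (AlgebraicClosure F) (ι → AlgebraicClosure F)) ≤ LinearMap.ker (Az ha φ 3 - 1) := by
      rw [← htop]
      refine iSup_le fun c => ?_
      by_cases hc : jt (Az ha φ) c = ⊥
      · rw [hc]; exact bot_le
      · intro v hv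
        rw [LinearMap.mem_ker, LinearMap.sub_apply, mem_jt.1 hv 3, hcon c hc, one_smul, Module.End.one_apply, sub_self]
    have h2 : rp φ (zz ha 3) = 1 := by
      apply LinearMap.ext
      intro v
      have h3 := LinearMap.mem_ker.1 (h1 (Submodule.mem_top (x := v)))
      rw [LinearMap.sub_apply] at h3
      exact sub_eq_zero.1 h3
    exact zz_not_center ha hq ha1 (hker (rp_eq_one h2))
  have hall := hcm.ne_one hne
  -- surjectivity over the algebraic closure
  have hs : Function.Surjective (Az ha φ 3 - 1 : Module.End (AlgebraicClosure F) (ι → AlgebraicClosure F)) := by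
    rw [← LinearMap.range_eq_top, eq_top_iff, ← htop]
    refine iSup_le fun c => ?_
    by_cases hc : jt (Az ha φ) c = ⊥
    · rw [hc]; exact bot_le
    · intro v hv
      have h1 : c 3 - 1 ≠ 0 := sub_ne_zero.2 (hall c hc)
      refine ⟨(c 3 - 1)⁻¹ • v, ?_⟩
      rw [map_smul, LinearMap.sub_apply, mem_jt.1 hv 3, Module.End.one_apply]
      have h2 : c 3 • v - v = (c 3 - 1) • v := by rw [sub_smul, one_smul]
      rw [h2, smul_smul, inv_mul_cancel₀ h1, one_smul]
  set M : Matrix ι ι F := (φ (zz ha 3) : Matrix ι ι F) - 1 with hM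
  have h1 : Function.Surjective (fun v => (M.map (algebraMap F (AlgebraicClosure F))) *ᵥ v) := by
    intro v
    obtain ⟨u, hu⟩ := hs v
    refine ⟨u, ?_⟩
    have h2 : M.map (algebraMap F (AlgebraicClosure F)) =
        (φ (zz ha 3) : Matrix ι ι F).map (algebraMap F (AlgebraicClosure F)) - 1 := by
      rw [hM, Matrix.map_sub _ (map_sub _), Matrix.map_one _ (map_zero _) (map_one _)]
    simp only [h2]
    rw [Matrix.sub_mulVec, Matrix.one_mulVec, ← hu]
    rfl
  have h2 := (Matrix.isUnit_iff_isUnit_det _).1 (Matrix.mulVec_surjective_iff_isUnit.1 h1)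
  have h3 : (M.map (algebraMap F (AlgebraicClosure F))).det = algebraMap F (AlgebraicClosure F) M.det :=
    (RingHom.map_det _ M).symm
  have h4 : IsUnit M.det := by
    rw [h3] at h2
    rw [isUnit_iff_ne_zero] at h2 ⊢
    intro h5
    apply h2
    rw [h5, map_zero]
  obtain ⟨v, hv⟩ := Matrix.mulVec_surjective_iff_isUnit.2 ((Matrix.isUnit_iff_isUnit_det _).2 h4) w
  refine ⟨v, ?_⟩
  rw [← hv, hM, Matrix.sub_mulVec, Matrix.one_mulVec]
  rfl

end Weights

/-- **in even characteristic** -/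
theorem even_fixQ [CharP F 2] [Fintype K] (hK : Fintype.card K = q ^ 2) (hq : Even q) {φ : SU 4 K q →* GL ι F}
    (hφ : φ.range = P) (hker : φ.ker ≤ Subgroup.center (SU 4 K q)) (hA : FixA P)
    (hι : Fintype.card ι = 6) : FixQ P := by
  obtain ⟨a, ha, ha1⟩ := LieClassical.SUBasic.exists_norm_one hK
  have hq' : Odd (q + 1) := hq.add_one
  have hqF : ((q + 1 : ℕ) : F) ≠ 0 := by
    obtain ⟨k, hk⟩ := hq'
    rw [hk]
    push_cast
    rw [CharTwo.two_eq_zero, zero_mul, zero_add]
    exact one_ne_zero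
  have hsurj := surj ha hq' hqF ha1 hφ hker hA hι
  obtain ⟨f, hf, hfix⟩ := hA
  have hinv : ∀ g u v, f (ac φ g u) (ac φ g v) = f u v := by
    intro g u v
    exact hfix _ ⟨φ g, by rw [← hφ]; exact ⟨g, rfl⟩, rfl⟩ u v
  obtain ⟨Q, hQ, hQinv⟩ := exists_invariant hf hinv hq' (zz_order ha 3) hsurj (fun g => conn ha hK g)
  have hpol : QuadraticMap.polar Q = f := by
    funext u v
    rw [QuadraticMap.polar, hQ.add]
    ring
  refine ⟨Q, ⟨hQ.smul, ?_, ?_⟩, ?_⟩
  · rw [hpol]; exact hf.bilinear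
  · rw [hpol]; exact hf.nondegenerate
  · rintro _ ⟨g, hg, rfl⟩ v
    rw [← hφ] at hg
    obtain ⟨g, rfl⟩ := hg
    exact hQinv g v

/-- **`PSU₄(q)` in its own characteristic, self-dual of degree six, fixes a quadratic form** -/
theorem u4_six [Finite F] (hC : Core P) (hSD : SD P) {p : ℕ} [hp : Fact p.Prime] [CharP F p] {K : Type} [Field K]
    [Fintype K] [CharP K p] {q : ℕ} (hK : Fintype.card K = q ^ 2) (e : Soc P ≃* PSU 4 K q)
    (hn : Fintype.card ι = 6) : FixQ P := by
  obtain ⟨φ, h1, h2, -⟩ := H905.Md.psu_cover p hC.perfect (by norm_num : 3 ≤ 4) hK (by omega) e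
  rcases hC.forms_of_sd hSD with h | h
  · exact h
  · obtain ⟨k, -, hk⟩ := FiniteField.card K p
    by_cases hp2 : p = 2
    · subst hp2
      refine even_fixQ hK ?_ h1 h2 h hn
      have h3 : Even (q ^ 2) := by
        rw [← hK, hk]
        exact (even_two).pow_of_ne_zero k.ne_zero
      rw [Nat.even_pow] at h3
      exact h3.1
    · exfalso
      have hodd : Odd q := by
        have h3 : Odd (q ^ 2) := by
          rw [← hK, hk]
          exact (hp.out.odd_of_ne_two hp2).pow
        exact Nat.not_even_iff_odd.1 fun h4 => (Nat.not_even_iff_odd.2 h3) (h4.pow_of_ne_zero (by norm_num))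
      have h2F : (2 : F) ≠ 0 := by
        intro h4
        have h5 : ((2 : ℕ) : F) = 0 := by exact_mod_cast h4
        rw [CharP.cast_eq_zero_iff F p] at h5
        exact hp2 ((Nat.prime_dvd_prime_iff_eq hp.out Nat.prime_two).1 h5)
      have h2K : (2 : K) ≠ 0 := by
        intro h4
        have h5 : ((2 : ℕ) : K) = 0 := by exact_mod_cast h4
        rw [CharP.cast_eq_zero_iff K p] at h5
        exact hp2 ((Nat.prime_dvd_prime_iff_eq hp.out Nat.prime_two).1 h5)
      exact odd_not_fixA hodd h2K h2F h1 h2 hC.absIrred hn h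

end Cfsg.Agent.H130.U4
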