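import Mathlib
import Cfsg.Agent.GpSp.Iso

/-!
# Joint eigenspaces of commuting operators of finite order (helper130)
-/

set_option autoImplicit false
set_option linter.unusedSectionVars false

namespace Cfsg.Agent.H130.U4

open Module

section Gen

variable {L : Type*} [Field L] {V : Type*} [AddCommGroup V] [Module L V] [FiniteDimensional L V] {κ : Type*}

/-- the joint eigenspaces -/
noncomputable def jt (A : κ → Module.End L V) (c : κ → L) : Submodule L V := ⨅ i, (A i).eigenspace (c i)

theorem mem_jt {A : κ → Module.End L V} {c : κ → L} {v : V} : v ∈ jt A c ↔ ∀ i, A i v = c i • v := by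
  rw [jt, Submodule.mem_iInf]
  exact forall_congr' fun i => Module.End.mem_eigenspace_iff

theorem maxGen_eq {f : Module.End L V} {n : ℕ} (hn : (n : L) ≠ 0) (hf : f ^ n = 1) (μ : L) :
    f.maxGenEigenspace μ = f.eigenspace μ := by
  have h1 : f.IsSemisimple := by
    refine Module.End.isSemisimple_of_squarefree_aeval_eq_zero (p := Polynomial.X ^ n - 1) ?_ ?_
    · exact (Polynomial.X_pow_sub_one_separable_iff.2 hn).squarefree
    · simp [hf]
  exact h1.isFinitelySemisimple.maxGenEigenspace_eq_eigenspace μ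

variable [IsAlgClosed L]

theorem jt_facts {A : κ → Module.End L V} (hc : ∀ i j, A i * A j = A j * A i) {n : ℕ} (hn : (n : L) ≠ 0)
    (hA : ∀ i, A i ^ n = 1) : iSupIndep (jt A) ∧ ⨆ c, jt A c = ⊤ := by
  have h1 : (fun c : κ → L => ⨅ i, (A i).maxGenEigenspace (c i)) = jt A := by
    funext c
    rw [jt]
    exact iInf_congr fun i => maxGen_eq hn (hA i) _
  have h2 : ∀ i j φ, Set.MapsTo (A i) ((A j).maxGenEigenspace φ) ((A j).maxGenEigenspace φ) := by
    intro i j φ
    exact Module.End.mapsTo_maxGenEigenspace_of_comm (hc j i) φ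
  constructor
  · rw [← h1]
    exact Module.End.independent_iInf_maxGenEigenspace_of_forall_mapsTo A h2
  · rw [← h1]
    exact Module.End.iSup_iInf_maxGenEigenspace_eq_top_of_forall_mapsTo A h2
      (fun i => Module.End.iSup_maxGenEigenspace_eq_top _)

/-! ### Involutions -/

/-- sign tuples -/
def sgt (L : Type*) [Field L] {κ : Type*} (b : κ → Bool) : κ → L := fun i => if b i then -1 else 1

theorem neg_ne_one (h2 : (2 : L) ≠ 0) : (-1 : L) ≠ 1 := by
  intro h
  apply h2
  have : (1 : L) + 1 = 0 := by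
    nth_rw 1 [← h]; ring
  rw [← this]; norm_num

theorem sgt_inj (h2 : (2 : L) ≠ 0) : Function.Injective (sgt L (κ := κ)) := by
  intro b b' h
  funext i
  have h1 := congrFun h i
  unfold sgt at h1
  have h3 := neg_ne_one (L := L) h2
  cases hb : b i <;> cases hb' : b' i <;> simp only [hb, hb', if_true, if_false, Bool.false_eq_true] at h1 ⊢
  · exact absurd h1.symm h3
  · exact absurd h1 h3

theorem jt_bot_or (A : κ → Module.End L V) (hA : ∀ i, A i * A i = 1) (c : κ → L) :
    jt A c = ⊥ ∨ ∃ b : κ → Bool, c = sgt L b := by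
  by_cases h : jt A c = ⊥
  · exact Or.inl h
  · right
    obtain ⟨v, hv, hv0⟩ := (Submodule.ne_bot_iff _).1 h
    rw [mem_jt] at hv
    have h1 : ∀ i, c i = 1 ∨ c i = -1 := by
      intro i
      have h3 : (A i * A i) v = (c i * c i) • v := by
        rw [Module.End.mul_apply, hv i, map_smul, hv i, smul_smul]
      rw [hA i, Module.End.one_apply] at h3
      have h4 : (c i * c i - 1) • v = 0 := by rw [sub_smul, one_smul, ← h3, sub_self]
      rcases smul_eq_zero.1 h4 with h5 | h5
      · exact mul_self_eq_one_iff.1 (sub_eq_zero.1 h5)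
      · exact absurd h5 hv0
    classical
    refine ⟨fun i => decide (c i ≠ 1), funext fun i => ?_⟩
    rcases h1 i with h3 | h3
    · simp [sgt, h3]
    · by_cases h4 : c i = 1
      · simp [sgt, h4]
      · simp only [sgt, h4, ne_eq, not_false_eq_true, decide_true, if_true]
        exact h3

theorem inv_facts (h2 : (2 : L) ≠ 0) {A : κ → Module.End L V} (hc : ∀ i j, A i * A j = A j * A i)
    (hA : ∀ i, A i * A i = 1) : iSupIndep (fun b : κ → Bool => jt A (sgt L b)) ∧ ⨆ b : κ → Bool, jt A (sgt L b) = ⊤ := by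
  obtain ⟨h1, h3⟩ := jt_facts hc (n := 2) (by exact_mod_cast h2) (fun i => by rw [pow_two, hA i])
  refine ⟨h1.comp (sgt_inj h2), ?_⟩
  rw [eq_top_iff, ← h3]
  refine iSup_le fun c => ?_
  rcases jt_bot_or A hA c with h4 | ⟨b, rfl⟩
  · rw [h4]; exact bot_le
  · exact le_iSup (fun b : κ → Bool => jt A (sgt L b)) b

theorem inv_sum [Fintype κ] [DecidableEq κ] (h2 : (2 : L) ≠ 0) {A : κ → Module.End L V}
    (hc : ∀ i j, A i * A j = A j * A i) (hA : ∀ i, A i * A i = 1) :
    finrank L V = ∑ b : κ → Bool, finrank L (jt A (sgt L b)) := by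
  obtain ⟨h1, h3⟩ := inv_facts h2 hc hA
  have h4 : DirectSum.IsInternal (fun b : κ → Bool => jt A (sgt L b)) :=
    (DirectSum.isInternal_submodule_iff_iSupIndep_and_iSup_eq_top _).2 ⟨h1, h3⟩
  rw [← Module.finrank_directSum]
  exact (LinearEquiv.ofBijective (DirectSum.coeLinearMap _) h4).finrank_eq.symm

/-- anticommuting pairs: the dimension is divisible by four -/
theorem four_dvd (h2 : (2 : L) ≠ 0) {X Y N M : Module.End L V} (hX : X * X = 1) (hY : Y * Y = 1) (hN : N * N = 1)
    (hM : M * M = 1) (hXY : X * Y = Y * X) (hNX : N * X = -(X * N)) (hNY : N * Y = Y * N) (hMX : M * X = X * M)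
    (hMY : M * Y = -(Y * M)) : 4 ∣ finrank L V := by
  have h1 := inv_sum h2 (A := ![X, Y]) (by
    intro i j
    fin_cases i <;> fin_cases j <;> simp [hXY]) (by
    intro i
    fin_cases i
    · exact hX
    · exact hY)
  -- conjugation
  have key : ∀ (Z : Module.End L V) (hZ : Z * Z = 1) (b b' : Fin 2 → Bool),
      (∀ v, v ∈ jt ![X, Y] (sgt L b) → Z v ∈ jt ![X, Y] (sgt L b')) →
      finrank L (jt ![X, Y] (sgt L b)) ≤ finrank L (jt ![X, Y] (sgt L b')) := by
    intro Z hZ b b' h
    have hinj : Function.Injective Z := by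
      intro u v huv
      have h3 : (Z * Z) u = (Z * Z) v := by rw [Module.End.mul_apply, Module.End.mul_apply, huv]
      rwa [hZ] at h3
    exact LinearMap.finrank_le_finrank_of_injective (f := Z.restrict h) (by
      intro u v huv
      exact Subtype.ext (hinj (congrArg Subtype.val huv)))
  have hN' : ∀ v, N (X v) = -(X (N v)) := fun v => by
    have := LinearMap.congr_fun hNX v
    simpa using this
  have hNy : ∀ v, N (Y v) = Y (N v) := fun v => by
    have := LinearMap.congr_fun hNY v
    simpa using this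
  have hM' : ∀ v, M (Y v) = -(Y (M v)) := fun v => by
    have := LinearMap.congr_fun hMY v
    simpa using this
  have hMx : ∀ v, M (X v) = X (M v) := fun v => by
    have := LinearMap.congr_fun hMX v
    simpa using this
  have kN : ∀ b : Fin 2 → Bool, ∀ v, v ∈ jt ![X, Y] (sgt L b) → N v ∈ jt ![X, Y] (sgt L ![!b 0, b 1]) := by
    intro b v hv
    rw [mem_jt] at hv ⊢
    have e0 : X v = sgt L b 0 • v := hv 0
    have e1 : Y v = sgt L b 1 • v := hv 1
    intro i
    fin_cases i
    · change X (N v) = sgt L ![!b 0, b 1] 0 • N v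
      have h3 := hN' v
      rw [e0, map_smul] at h3
      rw [← neg_eq_iff_eq_neg] at h3
      rw [← h3, ← neg_smul]
      congr 1
      simp only [sgt, Matrix.cons_val_zero]
      cases b 0 <;> simp
    · change Y (N v) = sgt L ![!b 0, b 1] 1 • N v
      rw [← hNy, e1, map_smul]
      rfl
  have kM : ∀ b : Fin 2 → Bool, ∀ v, v ∈ jt ![X, Y] (sgt L b) → M v ∈ jt ![X, Y] (sgt L ![b 0, !b 1]) := by
    intro b v hv
    rw [mem_jt] at hv ⊢
    have e0 : X v = sgt L b 0 • v := hv 0
    have e1 : Y v = sgt L b 1 • v := hv 1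
    intro i
    fin_cases i
    · change X (M v) = sgt L ![b 0, !b 1] 0 • M v
      rw [← hMx, e0, map_smul]
      rfl
    · change Y (M v) = sgt L ![b 0, !b 1] 1 • M v
      have h3 := hM' v
      rw [e1, map_smul] at h3
      rw [← neg_eq_iff_eq_neg] at h3
      rw [← h3, ← neg_smul]
      congr 1
      simp only [sgt, Matrix.cons_val_one]
      cases b 1 <;> simp
  have eN : ∀ b : Fin 2 → Bool, finrank L (jt ![X, Y] (sgt L b)) = finrank L (jt ![X, Y] (sgt L ![!b 0, b 1])) := by
    intro b
    refine le_antisymm (key N hN _ _ (kN b)) ?_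
    have h3 := key N hN _ _ (kN ![!b 0, b 1])
    have h4 : (![!(![!b 0, b 1] : Fin 2 → Bool) 0, (![!b 0, b 1] : Fin 2 → Bool) 1] : Fin 2 → Bool) = b := by
      funext i; fin_cases i <;> simp
    rwa [h4] at h3
  have eM : ∀ b : Fin 2 → Bool, finrank L (jt ![X, Y] (sgt L b)) = finrank L (jt ![X, Y] (sgt L ![b 0, !b 1])) := by
    intro b
    refine le_antisymm (key M hM _ _ (kM b)) ?_
    have h3 := key M hM _ _ (kM ![b 0, !b 1])
    have h4 : (![(![b 0, !b 1] : Fin 2 → Bool) 0, !(![b 0, !b 1] : Fin 2 → Bool) 1] : Fin 2 → Bool) = b := by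
      funext i; fin_cases i <;> simp
    rwa [h4] at h3
  have hall : ∀ b : Fin 2 → Bool, finrank L (jt ![X, Y] (sgt L b)) = finrank L (jt ![X, Y] (sgt L ![false, false])) := by
    intro b
    have hb : b = ![b 0, b 1] := by funext i; fin_cases i <;> rfl
    have a1 := eN ![false, false]
    have a2 := eM ![false, false]
    have a3 := eM ![true, false]
    simp only [Matrix.cons_val_zero, Matrix.cons_val_one] at a1 a2 a3
    rw [hb]
    cases b 0 <;> cases b 1
    · rfl
    · exact a2.symm
    · exact a1.symm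
    · exact (a1.trans a3).symm
  rw [Finset.sum_congr rfl (fun b _ => hall b), Finset.sum_const, Finset.card_univ, smul_eq_mul] at h1
  rw [h1]
  have : Fintype.card (Fin 2 → Bool) = 4 := by decide
  rw [this]
  exact Dvd.intro _ rfl

/-! ### alternating forms -/

theorem even_jt (h2 : (2 : L) ≠ 0) {A : κ → Module.End L V}
    (hc : ∀ i j, A i * A j = A j * A i) (hA : ∀ i, A i * A i = 1) (B : LinearMap.BilinForm L V) (hB : B.IsAlt)
    (hnd : ∀ u, (∀ v, B u v = 0) → u = 0) (hinv : ∀ i u v, B (A i u) (A i v) = B u v) (b : κ → Bool) :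
    Even (finrank L (jt A (sgt L b))) := by
  obtain ⟨-, htop⟩ := inv_facts h2 hc hA
  set U := jt A (sgt L b) with hU
  have horth : ∀ b' : κ → Bool, b ≠ b' → ∀ u ∈ U, ∀ v ∈ jt A (sgt L b'), B u v = 0 := by
    intro b' hb u hu v hv
    obtain ⟨i, hi⟩ := Function.ne_iff.1 hb
    rw [hU, mem_jt] at hu
    rw [mem_jt] at hv
    have h3 := hinv i u v
    rw [hu i, hv i] at h3
    simp only [map_smul, LinearMap.smul_apply, smul_eq_mul] at h3
    have h4 : sgt L b' i * sgt L b i = -1 := by
      unfold sgt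
      revert hi
      cases b i <;> cases b' i <;> simp
    have h5 : -(B u v) = B u v := by
      rw [← neg_one_mul, ← h4, mul_assoc]; exact h3
    have h6 : (2 : L) * B u v = 0 := by
      rw [two_mul]
      nth_rw 1 [← h5]
      ring
    rcases mul_eq_zero.1 h6 with h7 | h7
    · exact absurd h7 h2
    · exact h7
  have hnd' : ∀ u : U, (∀ v : U, B u v = 0) → u = 0 := by
    intro u hu
    apply Subtype.ext
    apply hnd
    have h3 : (⊤ : Submodule L V) ≤ LinearMap.ker (B u) := by
      rw [← htop]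
      refine iSup_le fun b' => ?_
      intro v hv
      rw [LinearMap.mem_ker]
      by_cases hbb : b = b'
      · subst hbb
        exact hu ⟨v, hv⟩
      · exact horth b' hbb u u.2 v hv
    intro v
    exact LinearMap.mem_ker.1 (h3 (Submodule.mem_top (x := v)))
  obtain ⟨k, hk⟩ := Cfsg.Agent.GpSp.Symp.even_of_nondeg (B.restrict U) (fun x => hB x) hnd'
  exact ⟨k, by rw [hk]; ring⟩

/-- the products -/
noncomputable def pr (A : Fin 4 → Module.End L V) (S : Fin 4 → Bool) : Module.End L V :=
  (if S 0 then A 0 else 1) * (if S 1 then A 1 else 1) * (if S 2 then A 2 else 1) * (if S 3 then A 3 else 1)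

/-- the parity -/
def par (S b : Fin 4 → Bool) : Bool := xor (xor (xor (S 0 && b 0) (S 1 && b 1)) (S 2 && b 2)) (S 3 && b 3)

theorem ite_apply_jt {A : Fin 4 → Module.End L V} {b : Fin 4 → Bool} {v : V} (hv : v ∈ jt A (sgt L b)) (s : Bool)
    (i : Fin 4) : (if s then A i else 1 : Module.End L V) v = (if (s && b i) then -1 else 1 : L) • v := by
  rw [mem_jt] at hv
  cases s
  · simp
  · simp only [if_true, Bool.true_and]
    exact hv i

theorem pr_apply {A : Fin 4 → Module.End L V} {b : Fin 4 → Bool} {v : V} (hv : v ∈ jt A (sgt L b))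
    (S : Fin 4 → Bool) : pr A S v = (if par S b then -1 else 1 : L) • v := by
  rw [pr, Module.End.mul_apply, ite_apply_jt hv, map_smul, Module.End.mul_apply, ite_apply_jt hv, map_smul,
    Module.End.mul_apply, ite_apply_jt hv, map_smul, ite_apply_jt hv, smul_smul, smul_smul, smul_smul]
  congr 1
  unfold par
  cases S 0 && b 0 <;> cases S 1 && b 1 <;> cases S 2 && b 2 <;> cases S 3 && b 3 <;> simp

theorem xor_aux : ∀ s0 s1 s2 s3 t0 t1 t2 t3 b0 b1 b2 b3 : Bool,
    xor (xor (xor ((xor s0 t0) && b0) ((xor s1 t1) && b1)) ((xor s2 t2) && b2)) ((xor s3 t3) && b3) =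
    xor (xor (xor (xor (s0 && b0) (s1 && b1)) (s2 && b2)) (s3 && b3))
      (xor (xor (xor (t0 && b0) (t1 && b1)) (t2 && b2)) (t3 && b3)) := by
  decide +kernel

theorem par_xor (S S' b : Fin 4 → Bool) : par (fun i => xor (S i) (S' i)) b = xor (par S b) (par S' b) :=
  xor_aux _ _ _ _ _ _ _ _ _ _ _ _

/-- four commuting involutions of a symplectic space of dimension six are dependent -/
theorem sixteen (h2 : (2 : L) ≠ 0) (hdim : finrank L V = 6) {A : Fin 4 → Module.End L V}
    (hc : ∀ i j, A i * A j = A j * A i) (hA : ∀ i, A i * A i = 1) (B : LinearMap.BilinForm L V) (hB : B.IsAlt)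
    (hnd : ∀ u, (∀ v, B u v = 0) → u = 0) (hinv : ∀ i u v, B (A i u) (A i v) = B u v) :
    ∃ T : Fin 4 → Bool, (∃ i, T i = true) ∧ pr A T = 1 := by
  classical
  have h1 := inv_sum h2 hc hA
  obtain ⟨-, htop⟩ := inv_facts h2 hc hA
  let N : Finset (Fin 4 → Bool) := Finset.univ.filter fun b => jt A (sgt L b) ≠ ⊥
  have hN : N.card ≤ 3 := by
    have h3 : ∑ b ∈ N, 2 ≤ ∑ b : Fin 4 → Bool, finrank L (jt A (sgt L b)) := by
      refine (Finset.sum_le_sum (g := fun b => finrank L (jt A (sgt L b))) fun b hb => ?_).trans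
        (Finset.sum_le_sum_of_subset (Finset.subset_univ N))
      have h4 : finrank L (jt A (sgt L b)) ≠ 0 := by
        rw [Ne, Submodule.finrank_eq_zero]
        exact (Finset.mem_filter.1 hb).2
      obtain ⟨k, hk⟩ := even_jt h2 hc hA B hB hnd hinv b
      omega
    rw [Finset.sum_const, smul_eq_mul, ← h1, hdim] at h3
    omega
  have hcard : Fintype.card (N → Bool) < Fintype.card (Fin 4 → Bool) := by
    rw [Fintype.card_fun, Fintype.card_fun, Fintype.card_bool, Fintype.card_coe, Fintype.card_fin]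
    exact Nat.pow_lt_pow_right (by norm_num) (by omega)
  obtain ⟨S, S', hne, hS⟩ := Fintype.exists_ne_map_eq_of_card_lt (fun S : Fin 4 → Bool => fun b : N => par S b) hcard
  refine ⟨fun i => xor (S i) (S' i), ?_, ?_⟩
  · obtain ⟨i, hi⟩ := Function.ne_iff.1 hne
    refine ⟨i, ?_⟩
    change xor (S i) (S' i) = true
    revert hi
    generalize S i = x
    generalize S' i = y
    cases x <;> cases y <;> simp
  have h5 : (⊤ : Submodule L V) ≤ LinearMap.ker (pr A (fun i => xor (S i) (S' i)) - 1) := by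
    rw [← htop]
    refine iSup_le fun b => ?_
    by_cases hb : jt A (sgt L b) = ⊥
    · rw [hb]; exact bot_le
    · intro v hv
      rw [LinearMap.mem_ker, LinearMap.sub_apply, pr_apply hv, par_xor]
      have h6 : par S b = par S' b := congrFun hS ⟨b, Finset.mem_filter.2 ⟨Finset.mem_univ _, hb⟩⟩
      rw [h6, Bool.xor_self]
      simp
  ext v
  have h6 := LinearMap.mem_ker.1 (h5 (Submodule.mem_top (x := v)))
  rw [LinearMap.sub_apply] at h6
  exact sub_eq_zero.1 h6

end Gen

end Cfsg.Agent.H130.U4
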