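import Cfsg.Agent.LieClassical.SUBasic
import Cfsg.Agent.LieClassical.HermSiegel

/-!
# Monomial elements of `SU₄(q)` (helper130)
-/

set_option autoImplicit false
set_option linter.unusedSectionVars false

namespace Cfsg.Agent.H130.U4

open Matrix Cfsg Cfsg.Agent.LieClassical.SUBasic Cfsg.Agent.LieClassical.HermSiegel

variable {K : Type*} [Field K] {q : ℕ}

theorem su_ext {g h : SU 4 K q} (H : ∀ v, act g v = act h v) : g = h :=
  mat_injective (Matrix.mulVec_injective (funext H))

theorem act_suDiag (a : Fin 4 → K) (hd : ∏ i, a i = 1) (ha : ∀ i, a i ^ (q + 1) = 1) (v : Fin 4 → K) :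
    act (suDiag q a hd ha) v = fun i => a i * v i := by
  funext i
  rw [act, mat, coe_suDiag, Matrix.mulVec_diagonal]

theorem act_suPerm (σ : Equiv.Perm (Fin 4)) (hσ : Equiv.Perm.sign σ = 1) (v : Fin 4 → K) :
    act (suPerm q σ hσ : SU 4 K q) v = fun i => v (σ i) := by
  funext i
  rw [act, mat, coe_suPerm, Matrix.permMatrix_mulVec]
  rfl

section Odd

variable (hq : Odd q)
include hq

theorem neg_pow (i : ℤˣ) : (((i : ℤ) : K)) ^ (q + 1) = 1 := by
  obtain ⟨k, hk⟩ := hq
  rcases Int.units_eq_one_or i with rfl | rfl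
  · simp
  · have : q + 1 = 2 * (k + 1) := by omega
    rw [this, pow_mul]; simp

/-- the sign elements -/
def dg (s : Fin 4 → ℤˣ) (hs : ∏ i, s i = 1) : SU 4 K q :=
  suDiag q (fun i => ((s i : ℤ) : K)) (by
    have h1 : ((∏ i, s i : ℤˣ) : ℤ) = 1 := by rw [hs]; rfl
    rw [Units.coe_prod] at h1
    exact_mod_cast congrArg (Int.cast : ℤ → K) h1) (fun i => neg_pow hq (s i))

theorem act_dg (s : Fin 4 → ℤˣ) (hs : ∏ i, s i = 1) (v : Fin 4 → K) :
    act (dg hq s hs) v = fun i => ((s i : ℤ) : K) * v i := act_suDiag _ _ _ _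

/-- minus one -/
def ng : SU 4 K q := dg hq (fun _ => -1) (by decide)

theorem act_ng (v : Fin 4 → K) : act (ng hq : SU 4 K q) v = -v := by
  rw [ng, act_dg]
  funext i
  simp

theorem ng_comm (g : SU 4 K q) : ng hq * g = g * ng hq := by
  apply su_ext
  intro v
  rw [act_mul, act_mul, act_ng, act_ng, act, act, Matrix.mulVec_neg]

theorem ng_sq : (ng hq : SU 4 K q) * ng hq = 1 := by
  apply su_ext
  intro v
  rw [act_mul, act_ng, act_ng, neg_neg, act_one]

theorem ng_ne (h2 : (2 : K) ≠ 0) : (ng hq : SU 4 K q) ≠ 1 := by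
  intro h
  have h1 := congrArg (fun g => act g (fun _ => (1 : K)) 0) h
  simp only [act_ng, act_one, Pi.neg_apply] at h1
  apply h2
  have : (1 : K) + 1 = 0 := by
    nth_rw 1 [← h1]; ring
  rw [← this]; norm_num

/-- the four involutions -/
def xx : Fin 4 → SU 4 K q :=
  ![dg hq ![-1, -1, 1, 1] (by decide), dg hq ![-1, 1, -1, 1] (by decide),
    suPerm q (Equiv.swap 0 1 * Equiv.swap 2 3) (by decide), suPerm q (Equiv.swap 0 2 * Equiv.swap 1 3) (by decide)]

theorem act_xx (i : Fin 4) (v : Fin 4 → K) : act (xx hq i) v =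
    (![![-v 0, -v 1, v 2, v 3], ![-v 0, v 1, -v 2, v 3], ![v 1, v 0, v 3, v 2], ![v 2, v 3, v 0, v 1]] :
      Fin 4 → Fin 4 → K) i := by
  fin_cases i
  · change act (dg hq ![-1, -1, 1, 1] (by decide)) v = _
    rw [act_dg]
    funext j
    fin_cases j <;> simp
  · change act (dg hq ![-1, 1, -1, 1] (by decide)) v = _
    rw [act_dg]
    funext j
    fin_cases j <;> simp
  · change act (suPerm q (Equiv.swap 0 1 * Equiv.swap 2 3) (by decide)) v = _
    rw [act_suPerm]
    funext j
    fin_cases j <;> rfl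
  · change act (suPerm q (Equiv.swap 0 2 * Equiv.swap 1 3) (by decide)) v = _
    rw [act_suPerm]
    funext j
    fin_cases j <;> rfl

theorem xx_sq (i : Fin 4) : xx hq i * xx hq i = (1 : SU 4 K q) := by
  apply su_ext
  intro v
  rw [act_mul, act_one, act_xx, act_xx]
  funext j
  fin_cases i <;> fin_cases j <;> simp

/-- the pairing -/
def pd (i j : Fin 4) : Bool := (i.1 + j.1 == 3)

theorem xx_comm (i j : Fin 4) : xx hq i * xx hq j = (if pd i j then ng hq else 1) * (xx hq j * xx hq i : SU 4 K q) := by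
  apply su_ext
  intro v
  split_ifs with h
  · rw [act_mul, act_mul, act_mul, act_ng, act_xx, act_xx, act_xx, act_xx]
    funext k
    fin_cases i <;> fin_cases j <;> first
      | (exfalso; revert h; decide)
      | (fin_cases k <;> simp)
  · rw [one_mul, act_mul, act_mul, act_xx, act_xx, act_xx, act_xx]
    funext k
    fin_cases i <;> fin_cases j <;> first
      | (exfalso; revert h; decide)
      | (fin_cases k <;> simp)

end Odd

end Cfsg.Agent.H130.U4
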