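import Cfsg.Agent.H130.U4.Rep
import Cfsg.Agent.H130.U4.Mono

/-!
# `SU₄(q)`, `q` odd, has no symplectic representation of degree six (helper130)
-/

set_option autoImplicit false
set_option linter.unusedSectionVars false

namespace Cfsg.Agent.H130.U4

open Matrix Cfsg Cfsg.Geo Cfsg.Agent.H915.LD Module

universe u

variable {F : Type u} [Field F] {ι : Type} [Fintype ι] [DecidableEq ι] {P : Subgroup (GL ι F)}
  {K : Type*} [Field K] {q : ℕ}

/-- the products of the four involutions -/
def gT (hq : Odd q) (T : Fin 4 → Bool) : SU 4 K q :=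
  (if T 0 then xx hq 0 else 1) * (if T 1 then xx hq 1 else 1) * (if T 2 then xx hq 2 else 1) *
    (if T 3 then xx hq 3 else 1)

theorem xx_ite (hq : Odd q) (i j : Fin 4) (t : Bool) : xx hq j * (if t then xx hq i else 1) =
    (if t && pd j i then ng hq else 1) * ((if t then xx hq i else 1) * xx hq j : SU 4 K q) := by
  cases t
  · simp
  · simp only [if_true, Bool.true_and]
    exact xx_comm hq j i

theorem xx_gT (hq : Odd q) (T : Fin 4 → Bool) (j : Fin 4) (hj : T (Fin.rev j) = true) :
    (xx hq j * gT hq T : SU 4 K q) = ng hq * (gT hq T * xx hq j) := by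
  have hc : ∀ (b : Bool) (g : SU 4 K q), (if b then ng hq else 1) * g = g * (if b then ng hq else 1 : SU 4 K q) := by
    intro b g
    cases b
    · simp
    · simp only [if_true]; exact ng_comm hq g
  unfold gT
  generalize h0 : (if T 0 then xx hq 0 else 1 : SU 4 K q) = a0
  generalize h1 : (if T 1 then xx hq 1 else 1 : SU 4 K q) = a1
  generalize h2 : (if T 2 then xx hq 2 else 1 : SU 4 K q) = a2
  generalize h3 : (if T 3 then xx hq 3 else 1 : SU 4 K q) = a3
  have e0 := xx_ite (K := K) hq 0 j (T 0)
  have e1 := xx_ite (K := K) hq 1 j (T 1)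
  have e2 := xx_ite (K := K) hq 2 j (T 2)
  have e3 := xx_ite (K := K) hq 3 j (T 3)
  rw [h0] at e0
  rw [h1] at e1
  rw [h2] at e2
  rw [h3] at e3
  have hpd : ∀ i j : Fin 4, pd j i = decide (i = Fin.rev j) := by decide
  rw [hpd] at e0 e1 e2 e3
  have key : ∀ a b c d x : SU 4 K q, ∀ ba bb bc bd : Bool,
      x * a = (if ba then ng hq else 1) * (a * x) → x * b = (if bb then ng hq else 1) * (b * x) →
      x * c = (if bc then ng hq else 1) * (c * x) → x * d = (if bd then ng hq else 1) * (d * x) →
      x * (a * b * c * d) = (if ba then ng hq else 1) * (if bb then ng hq else 1) * (if bc then ng hq else 1) *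
        (if bd then ng hq else 1) * (a * b * c * d * x) := by
    intro a b c d x ba bb bc bd ha hb hc' hd
    have := hc ba
    calc x * (a * b * c * d) = (x * a) * b * c * d := by group
      _ = (if ba then ng hq else 1) * a * (x * b) * c * d := by rw [ha]; group
      _ = (if ba then ng hq else 1) * (a * (if bb then ng hq else 1)) * b * (x * c) * d := by rw [hb]; group
      _ = (if ba then ng hq else 1) * (if bb then ng hq else 1) * a * b * (x * c) * d := by
          rw [← hc bb]; group
      _ = (if ba then ng hq else 1) * (if bb then ng hq else 1) * ((a * b) * (if bc then ng hq else 1)) * c *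
          (x * d) := by rw [hc']; group
      _ = (if ba then ng hq else 1) * (if bb then ng hq else 1) * (if bc then ng hq else 1) * (a * b * c) *
          (x * d) := by rw [← hc bc]; group
      _ = (if ba then ng hq else 1) * (if bb then ng hq else 1) * (if bc then ng hq else 1) *
          ((a * b * c) * (if bd then ng hq else 1)) * d * x := by rw [hd]; group
      _ = _ := by rw [← hc bd]; group
  rw [key _ _ _ _ _ _ _ _ _ e0 e1 e2 e3]
  congr 1
  fin_cases j
  · have hj' : T 3 = true := hj
    simp [hj', Fin.rev]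
  · have hj' : T 2 = true := hj
    simp [hj', Fin.rev]
  · have hj' : T 1 = true := hj
    simp [hj', Fin.rev]
  · have hj' : T 0 = true := hj
    simp [hj', Fin.rev]

theorem gT_not_mem (hq : Odd q) (h2 : (2 : K) ≠ 0) {T : Fin 4 → Bool} (hT : ∃ i, T i = true)
    (h : gT hq T ∈ Subgroup.center (SU 4 K q)) : False := by
  obtain ⟨i, hi⟩ := hT
  have h1 := xx_gT (K := K) hq T (Fin.rev i) (by rw [Fin.rev_rev]; exact hi)
  rw [Subgroup.mem_center_iff.1 h] at h1
  exact ng_ne hq h2 (mul_eq_right.1 h1.symm)

/-- **no symplectic representation of degree six in odd characteristic** -/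
theorem odd_not_fixA (hq : Odd q) (h2K : (2 : K) ≠ 0) (h2 : (2 : F) ≠ 0) {φ : SU 4 K q →* GL ι F} (hφ : φ.range = P)
    (hker : φ.ker ≤ Subgroup.center (SU 4 K q)) (hP : ActsAbsolutelyIrreducibly (matrixSet P))
    (hι : Fintype.card ι = 6) : ¬ FixA P := by
  intro hA
  have h2L : (2 : AlgebraicClosure F) ≠ 0 := by
    intro h
    apply h2
    apply (algebraMap F (AlgebraicClosure F)).injective
    rw [map_zero, ← h]
    exact map_ofNat _ 2
  have hdim : finrank (AlgebraicClosure F) (ι → AlgebraicClosure F) = 6 := by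
    rw [Module.finrank_fintype_fun_eq_card, hι]
  obtain ⟨c, hc⟩ := rp_scalar hφ hP (z := ng hq) (ng_comm hq)
  have hcc : c = 1 ∨ c = -1 := by
    have h1 : rp φ (ng hq) * rp φ (ng hq) = 1 := by rw [← map_mul, ng_sq, map_one]
    rw [hc, smul_mul_smul_comm, mul_one] at h1
    have hne : Nonempty ι := Fintype.card_pos_iff.1 (by omega)
    obtain ⟨i⟩ := hne
    have h3 := congrFun (LinearMap.congr_fun h1 (fun _ => (1 : AlgebraicClosure F))) i
    simp only [LinearMap.smul_apply, Module.End.one_apply, Pi.smul_apply, smul_eq_mul, mul_one] at h3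
    exact mul_self_eq_one_iff.1 h3
  have hmul : ∀ i j, rp φ (xx hq i) * rp φ (xx hq j) =
      (if pd i j then rp φ (ng hq) else 1) * (rp φ (xx hq j) * rp φ (xx hq i)) := by
    intro i j
    rw [← map_mul, xx_comm, map_mul, map_mul]
    split_ifs
    · rfl
    · rw [map_one]
  have hsq : ∀ i, rp φ (xx hq i) * rp φ (xx hq i) = 1 := by
    intro i
    rw [← map_mul, xx_sq, map_one]
  rcases hcc with rfl | rfl
  · -- `-1` acts trivially
    rw [one_smul] at hc
    have hcomm : ∀ i j, rp φ (xx hq i) * rp φ (xx hq j) = rp φ (xx hq j) * rp φ (xx hq i) := by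
      intro i j
      rw [hmul, hc]
      split_ifs <;> rw [one_mul]
    obtain ⟨B, hnd, hinv, hskew⟩ := exists_form hφ hA
    obtain ⟨T, hT, hT1⟩ := sixteen h2L hdim (A := fun i => rp φ (xx hq i)) hcomm hsq B (by
      intro u
      have h1 := hskew u u
      have h3 : (2 : AlgebraicClosure F) * B u u = 0 := by
        rw [two_mul]
        nth_rw 1 [h1]
        ring
      rcases mul_eq_zero.1 h3 with h4 | h4
      · exact absurd h4 h2L
      · exact h4) hnd (fun i u v => hinv _ u v)
    have h1 : rp φ (gT hq T) = 1 := by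
      rw [← hT1, pr, gT, map_mul, map_mul, map_mul]
      simp only [apply_ite (rp φ), map_one]
    refine gT_not_mem hq h2K hT (hker ?_)
    rw [MonoidHom.mem_ker]
    exact rp_eq_one h1
  · -- `-1` acts as `-1`
    have hc' : ∀ X : Module.End (AlgebraicClosure F) (ι → AlgebraicClosure F), rp φ (ng hq) * X = -X := by
      intro X
      apply LinearMap.ext
      intro v
      rw [Module.End.mul_apply, hc, LinearMap.smul_apply, Module.End.one_apply, LinearMap.neg_apply]
      exact neg_one_smul _ _
    have h4 := four_dvd h2L (X := rp φ (xx hq 0)) (Y := rp φ (xx hq 1)) (N := rp φ (xx hq 3))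
      (M := rp φ (xx hq 2)) (hsq _) (hsq _) (hsq _) (hsq _)
      (by rw [hmul, if_neg (by decide), one_mul]) (by rw [hmul, if_pos (by decide), hc']) (by rw [hmul, if_neg (by decide), one_mul]) (by rw [hmul, if_neg (by decide), one_mul])
      (by rw [hmul, if_pos (by decide), hc'])
    rw [hdim] at h4
    omega

end Cfsg.Agent.H130.U4
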