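import Cfsg.Agent.H151.Six.W0Sym
import Cfsg.Agent.H921.SympDim
import Cfsg.Agent.H130.U4.Joint

/-!
# The representation over the algebraic closure (helper130)
-/

set_option autoImplicit false
set_option linter.unusedSectionVars false

namespace Cfsg.Agent.H130.U4

open Matrix Cfsg Cfsg.Geo Cfsg.Agent.H915.LD

universe u

variable {F : Type u} [Field F] {ι : Type} [Fintype ι] [DecidableEq ι] {P : Subgroup (GL ι F)}
  {G : Type*} [Group G]

/-- the representation over the algebraic closure -/
noncomputable def rp (φ : G →* GL ι F) : G →* Module.End (AlgebraicClosure F) (ι → AlgebraicClosure F) where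
  toFun g := Matrix.toLin' ((φ g : Matrix ι ι F).map (algebraMap F (AlgebraicClosure F)))
  map_one' := by
    rw [map_one, Units.val_one, Matrix.map_one _ (map_zero _) (map_one _), Matrix.toLin'_one]
    rfl
  map_mul' x y := by
    rw [map_mul, Units.val_mul, Matrix.map_mul, Matrix.toLin'_mul]
    rfl

theorem rp_apply (φ : G →* GL ι F) (g : G) (v : ι → AlgebraicClosure F) :
    rp φ g v = (φ g : Matrix ι ι F).map (algebraMap F (AlgebraicClosure F)) *ᵥ v := rfl

theorem rp_eq_one {φ : G →* GL ι F} {g : G} (h : rp φ g = 1) : φ g = 1 := by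
  have h1 : Matrix.toLin' ((φ g : Matrix ι ι F).map (algebraMap F (AlgebraicClosure F))) =
      Matrix.toLin' (1 : Matrix ι ι (AlgebraicClosure F)) := by
    rw [Matrix.toLin'_one]; exact h
  have h2 := Matrix.toLin'.injective h1
  apply Units.ext
  ext i j
  have h3 := congrFun (congrFun h2 i) j
  rw [Matrix.map_apply] at h3
  rw [Units.val_one]
  apply (algebraMap F (AlgebraicClosure F)).injective
  rw [h3]
  by_cases hij : i = j
  · subst hij; simp
  · simp [Matrix.one_apply_ne hij]

/-- a central element is a scalar -/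
theorem rp_scalar {φ : G →* GL ι F} (hφ : φ.range = P) (hP : ActsAbsolutelyIrreducibly (matrixSet P)) {z : G}
    (hz : ∀ g, z * g = g * z) : ∃ c : AlgebraicClosure F, rp φ z = c • 1 := by
  have hzP : φ z ∈ P := by rw [← hφ]; exact ⟨z, rfl⟩
  obtain ⟨c, hc⟩ := H921.center_scalar hP ⟨φ z, hzP⟩ (by
    rw [Subgroup.mem_center_iff]
    rintro ⟨g, hg⟩
    rw [← hφ] at hg
    obtain ⟨g, rfl⟩ := hg
    apply Subtype.ext
    change φ g * φ z = φ z * φ g
    rw [← map_mul, ← map_mul, hz])
  refine ⟨algebraMap F _ c, ?_⟩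
  ext1 i
  have hc' : (φ z : Matrix ι ι F) = c • 1 := hc
  ext1
  simp only [LinearMap.comp_apply]
  rw [rp_apply, hc']
  have : (c • (1 : Matrix ι ι F)).map (algebraMap F (AlgebraicClosure F)) =
      algebraMap F (AlgebraicClosure F) c • (1 : Matrix ι ι (AlgebraicClosure F)) := by
    ext i j
    by_cases hij : i = j
    · subst hij; simp
    · simp [Matrix.one_apply_ne hij]
  rw [this, Matrix.smul_mulVec, Matrix.one_mulVec]
  rfl

/-- an invariant form over the algebraic closure -/
theorem exists_form {φ : G →* GL ι F} (hφ : φ.range = P) (h : FixA P) :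
    ∃ B : LinearMap.BilinForm (AlgebraicClosure F) (ι → AlgebraicClosure F),
      (∀ u, (∀ v, B u v = 0) → u = 0) ∧ (∀ g u v, B (rp φ g u) (rp φ g v) = B u v) ∧ ∀ u v, B u v = -B v u := by
  obtain ⟨B, hskew, hdet, hfix⟩ := H151.Six.exists_skew h
  set B' : Matrix ι ι (AlgebraicClosure F) := B.map (algebraMap F (AlgebraicClosure F)) with hB'
  have hdet' : IsUnit B'.det := by
    have h1 : B'.det = algebraMap F (AlgebraicClosure F) B.det := (RingHom.map_det _ B).symm
    rw [h1]
    exact hdet.map _
  have hskew' : B'ᵀ = -B' := by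
    rw [hB', ← Matrix.transpose_map, hskew]
    ext i j
    simp
  refine ⟨Matrix.toBilin' B', ?_, ?_, ?_⟩
  · intro u hu
    have h1 : u ᵥ* B' = 0 := by
      funext i
      have h3 := hu (Pi.single i 1)
      rw [Matrix.toBilin'_apply', Matrix.dotProduct_mulVec, dotProduct_single_one] at h3
      exact h3
    have h2 : Function.Injective (fun w => w ᵥ* B') := Matrix.vecMul_injective_iff_isUnit.2
      ((Matrix.isUnit_iff_isUnit_det _).2 hdet')
    apply h2
    simp only [h1, Matrix.zero_vecMul]
  · intro g u v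
    rw [Matrix.toBilin'_apply', Matrix.toBilin'_apply', rp_apply, rp_apply, H151.Six.dot_mulVec_left,
      Matrix.mulVec_mulVec]
    have h1 := hfix (φ g) (by rw [← hφ]; exact ⟨g, rfl⟩)
    have h3 := congrArg (fun N : Matrix ι ι F => N.map (algebraMap F (AlgebraicClosure F))) h1
    rw [Matrix.map_mul, Matrix.map_mul, Matrix.transpose_map] at h3
    rw [h3]
  · intro u v
    rw [Matrix.toBilin'_apply', Matrix.toBilin'_apply']
    have h2 : v ⬝ᵥ (B' *ᵥ u) = u ⬝ᵥ (B'ᵀ *ᵥ v) := by
      rw [Matrix.mulVec_transpose, Matrix.dotProduct_mulVec, dotProduct_comm]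
    rw [h2, hskew', Matrix.neg_mulVec, dotProduct_neg, neg_neg]

end Cfsg.Agent.H130.U4
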